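import Groth.Agent.ShStabLib.BC.Sys
import Groth.Agent.VBLib.Slope
import Groth.Agent.EulerChar.AmpleCurve
import Groth.Agent.InvOfTensor

/-!
# Uniform vanishing of `H¹` of twists of bundles with quotients of bounded Euler characteristic
-/

set_option autoImplicit false
set_option linter.style.haveILetI false

universe u

open CategoryTheory CategoryTheory.Limits AlgebraicGeometry Filter
open Groth.Agent.HilbPolyX Groth.Agent.VBLib Groth.Agent.ShStabLib

noncomputable section

namespace Groth.Agent.BoundSS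

attribute [local irreducible] Curv2.euler

variable {X : Scheme.{u}} [IsIntegral X] {k : Type u} [Field k] [X.Over (Spec (CommRingCat.of k))]
  (hX : GoodCurve k X) {L : X.Modules} (hL : CohB1.IsAmple L)

omit [IsIntegral X] in
theorem shortExact_mono {G E : X.Modules} (i : G ⟶ E) [Mono i] :
    (ShortComplex.mk i (cokernel.π i) (cokernel.condition i)).ShortExact :=
  { exact := ShortComplex.exact_of_g_is_cokernel _ (cokernelIsCokernel i) }

omit [IsIntegral X] in
theorem shortExact_epi {E Q : X.Modules} (g : E ⟶ Q) [Epi g] :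
    (ShortComplex.mk (kernel.ι g) g (kernel.condition g)).ShortExact :=
  { exact := ShortComplex.exact_of_f_is_kernel _ (kernelIsKernel g) }

omit [IsIntegral X] in
theorem subsingleton_mid {S : ShortComplex X.Modules} (hS : S.ShortExact)
    (h1 : Subsingleton (Coh.HH X S.X₁ 1)) (h3 : Subsingleton (Coh.HH X S.X₃ 1)) :
    Subsingleton (Coh.HH X S.X₂ 1) := by
  suffices ∀ x : Coh.HH X S.X₂ 1, x = 0 from ⟨fun a b => (this a).trans (this b).symm⟩
  intro x
  obtain ⟨y, hy⟩ := CohLin.exists_hMap_f_eq hS x (Subsingleton.elim _ _)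
  rw [← hy, Subsingleton.elim y 0, map_zero]

omit [IsIntegral X] in
theorem subsingleton_right {S : ShortComplex X.Modules} (hS : S.ShortExact)
    (h1 : Subsingleton (Coh.HH X S.X₁ 2)) (h2 : Subsingleton (Coh.HH X S.X₂ 1)) :
    Subsingleton (Coh.HH X S.X₃ 1) := by
  suffices ∀ x : Coh.HH X S.X₃ 1, x = 0 from ⟨fun a b => (this a).trans (this b).symm⟩
  intro x
  obtain ⟨y, hy⟩ := CohLin.exists_hMap_g_eq hS x (h1.elim _ _)
  rw [← hy, h2.elim y 0, map_zero]

include hX

theorem genericPoint_notMem_support {C : X.Modules} (hC : Coh.IsCoh C) (h0 : rk C = 0) :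
    genericPoint X ∉ CohB1.support C := fun h => h (by
  haveI := hX.isLocallyNoetherian
  letI : Field (X.presheaf.stalk (genericPoint X)) := inferInstanceAs (Field X.functionField)
  haveI := finite_stalk hC (genericPoint X)
  exact Module.finrank_zero_iff.1 h0)

theorem dim_support_of_rk {C : X.Modules} (hC : Coh.IsCoh C) (h0 : rk C = 0) :
    topologicalKrullDim ↥(CohB1.support C) ≤ 0 :=
  haveI := hX.proper
  EulerChar.dim_support_le_zero k hX.dim hC (genericPoint_notMem_support hX hC h0)

omit [IsIntegral X] hX in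
theorem subsingleton_twist_of_dim [IsProper (X ↘ Spec (CommRingCat.of k))] (hL' : PicF.IsInvertible L)
    {C : X.Modules} (hC : Coh.IsCoh C) (h : topologicalKrullDim ↥(CohB1.support C) ≤ 0) (m : ℕ) :
    Subsingleton (Coh.HH X (ShStab.twist X L C m) 1) :=
  EulerChar.subsingleton_HH_of_support k (isCoh_twist k hL' hC m)
    ((Topology.IsEmbedding.inclusion (support_tensorMod_subset C _)).isInducing.topologicalKrullDim_le.trans h) 0

include hL in
/-- `χ(G(m)) = χ(G) + m deg L rk G`. -/
theorem euler_twist {G : X.Modules} (hG : FlatMod.IsFinLocFree G) (m : ℕ) :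
    Curv2.euler k X (ShStab.twist X L G m) =
      Curv2.euler k X G + (rk G : ℤ) * m * Curv2.deg k X L 1 := by
  haveI := hX.proper
  have hP := AmpleLib.isInvertible_tensorPow hL.1 m
  have hV : FlatMod.IsFinLocFreeOfRank 1 (CohB1.tensorPow L m) := ProjTwist.isFinLocFreeOfRank_one hP
  have hW := ofRank_rk hG
  have h := EulerChar.deg_tens k hV hX.dim.le hW
  have he : Curv2.euler k X (CohDev.tens (CohB1.tensorPow L m) G) =
      Curv2.euler k X (ShStab.twist X L G m) :=
    EulerChar.euler_iso k (ProjTwist.tensComm _ _)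
  simp only [Curv2.deg, Nat.cast_one, one_mul, Nat.cast_mul] at h
  rw [he] at h
  have hd := EulerChar.deg_tensorPow k hX.dim hL.1 m
  simp only [Curv2.deg, Nat.cast_one, one_mul] at hd ⊢
  linear_combination h + (rk G : ℤ) * hd

variable {A : ℕ → X.Modules} (hA : BC.IsInvSys L A)

omit [IsIntegral X] hX in
theorem isInvertible_invSys (hA : BC.IsInvSys L A) (n : ℕ) : PicF.IsInvertible (A n) :=
  InvOfTensor.isInvertible (hA.inv n).some

include hA hL in
theorem exists_hom_ne_zero {G : X.Modules} (hG : Coh.IsCoh G) (n : ℕ)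
    (h : 0 < Curv2.euler k X (ShStab.twist X L G n)) : ∃ φ : A n ⟶ G, φ ≠ 0 := by
  haveI := hX.proper
  haveI := BC.finite_hom k hA hL.1 hG n
  have hle := EulerChar.euler_le_h0 k hX.dim (isCoh_twist k hL.1 hG n)
  have hp : 0 < Module.finrank k (A n ⟶ G) := by
    rw [((BC.homEquiv k hA n G).trans (BC.secEquiv k _)).finrank_eq]
    exact Int.natCast_pos.1 (lt_of_lt_of_le h hle)
  haveI := Module.nontrivial_of_finrank_pos hp
  exact exists_ne 0

include hL hA in
set_option maxHeartbeats 1600000 in
/-- One step: a bundle with a map from `A n` is an extension of a bundle of rank one less. -/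
theorem exists_step {G : X.Modules} (hG : FlatMod.IsFinLocFree G) {n : ℕ} (φ : A n ⟶ G) (hφ : φ ≠ 0) :
    ∃ (N : X.Modules) (i : N ⟶ G) (_ : Mono i),
      FlatMod.IsFinLocFree (cokernel i) ∧ rk G = rk (cokernel i) + 1 ∧
      ∀ m, Subsingleton (Coh.HH X (ShStab.twist X L (A n) m) 1) →
        Subsingleton (Coh.HH X (ShStab.twist X L N m) 1) := by
  haveI := hX.proper
  haveI := hX.isLocallyNoetherian
  have hAn := hA.coh n
  have hGc := isCoh_of_isFinLocFree hG
  have hIc : Coh.IsCoh (Abelian.image φ) := isCoh_image φ hAn hGc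
  have hI : FlatMod.IsFinLocFree (Abelian.image φ) := hX.sub (Abelian.image.ι φ) hIc.1 hG
  have hrkI : rk (Abelian.image φ) = 1 := by
    have h1 := rk_add (shortExact_epi (Abelian.factorThruImage φ)) hAn
    have h2 : rk (A n) = 1 := rk_eq (ProjTwist.isFinLocFreeOfRank_one (isInvertible_invSys hA n))
    have h3 : rk (Abelian.image φ) ≠ 0 := fun h0 => hφ (by
      rw [← Abelian.image.fac φ, (isZero_of_rk_eq_zero hI h0).eq_of_src (Abelian.image.ι φ) 0, comp_zero])
    change rk (A n) = rk (kernel _) + rk (Abelian.image φ) at h1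
    omega
  obtain ⟨N, j, i, hji, hj, hi, hN, hQ, hrk, -⟩ :=
    hX.exists_saturation (Abelian.image.ι φ) hIc hG
  have hNc := isCoh_of_isFinLocFree hN
  have hadd := rk_add (shortExact_mono i) hGc
  change rk G = rk N + rk (cokernel i) at hadd
  refine ⟨N, i, hi, hQ, by omega, fun m hm => ?_⟩
  haveI := BC.isEquivalence_twistF hA m
  have hC := isCoh_cokernel j hIc hNc
  have hC0 : rk (cokernel j) = 0 := by
    have h := rk_add (shortExact_mono j) hNc
    change rk N = rk (Abelian.image φ) + rk (cokernel j) at h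
    omega
  have hI1 : Subsingleton (Coh.HH X (ShStab.twist X L (Abelian.image φ) m) 1) :=
    subsingleton_right ((shortExact_epi (Abelian.factorThruImage φ)).map_of_exact (twistF L m))
      (EulerChar.subsingleton_HH_two_le k hX.dim _ one_lt_two) hm
  exact subsingleton_mid ((shortExact_mono j).map_of_exact (twistF L m)) hI1
    (subsingleton_twist_of_dim (k := k) hL.1 hC (dim_support_of_rk hX hC hC0) m)

include hL in
/-- Uniform vanishing. -/
theorem exists_uniform (D : ℤ) (r : ℕ) :
    ∃ m₀ : ℕ, ∀ G : X.Modules, FlatMod.IsFinLocFree G → rk G ≤ r →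
      (∀ (Q : X.Modules) (g : G ⟶ Q), Epi g → FlatMod.IsFinLocFree Q → 0 < rk Q →
        D ≤ Curv2.euler k X Q) →
      ∀ m, m₀ ≤ m → Subsingleton (Coh.HH X (ShStab.twist X L G m) 1) := by
  haveI := hX.proper
  haveI := EulerChar.isNoetherian k (X := X)
  obtain ⟨A, hA⟩ := BC.exists_invSys hL.1
  have hℓ : 0 < Curv2.deg k X L 1 := EulerChar.deg_pos_of_isAmple k hX.dim hL
  have zero : ∀ G : X.Modules, FlatMod.IsFinLocFree G → rk G = 0 → ∀ m,
      Subsingleton (Coh.HH X (ShStab.twist X L G m) 1) := fun G hG h0 m =>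
    subsingleton_twist_of_dim (k := k) hL.1 (isCoh_of_isFinLocFree hG)
      (dim_support_of_rk hX (isCoh_of_isFinLocFree hG) h0) m
  induction r with
  | zero => exact ⟨0, fun G hG hr _ m _ => zero G hG (Nat.le_zero.1 hr) m⟩
  | succ r ih =>
    obtain ⟨m₁, h₁⟩ := ih
    let a : ℕ := D.natAbs + 1
    obtain ⟨m₂, h₂⟩ := AmpCrit.SerreVan.serre_vanishing (X ↘ Spec (CommRingCat.of k)) hL (A a) (hA.coh a)
    refine ⟨max m₁ m₂, fun G hG hr hq m hm => ?_⟩
    rcases Nat.eq_zero_or_pos (rk G) with h0 | hpos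
    · exact zero G hG h0 m
    have hD := hq G (𝟙 G) inferInstance hG hpos
    have hpos' : 0 < Curv2.euler k X (ShStab.twist X L G a) := by
      rw [euler_twist hX hL hG]
      have h1 : (a : ℤ) ≤ (rk G : ℤ) * a * Curv2.deg k X L 1 := by
        rw [mul_comm (rk G : ℤ), mul_assoc]
        exact le_mul_of_one_le_right (Nat.cast_nonneg _) (by nlinarith)
      have h2 : (a : ℤ) = (D.natAbs : ℤ) + 1 := by simp [a]
      omega
    obtain ⟨φ, hφ⟩ := exists_hom_ne_zero hX hL hA (isCoh_of_isFinLocFree hG) a hpos'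
    obtain ⟨N, i, hi, hQ, hrk, hN⟩ := exists_step hX hL hA hG φ hφ
    haveI := BC.isEquivalence_twistF hA m
    exact subsingleton_mid ((shortExact_mono i).map_of_exact (twistF L m))
      (hN m (h₂ m (le_of_max_le_right hm) 1 one_pos))
      (h₁ (cokernel i) hQ (by omega)
        (fun Q g hg hQf hQr => hq Q (cokernel.π i ≫ g) (epi_comp _ _) hQf hQr) m (le_of_max_le_left hm))

end Groth.Agent.BoundSS

end
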